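import Mathlib
set_option linter.all false

/-!
# Commutators with an abelian subgroup of largest order

`A` abelian of largest order among the abelian subgroups of `Q A`, `y` an element such that the subgroup `V` generated
by the `a y a⁻¹ y⁻¹` is abelian and contained in `Q`.  Then every element of `V` is `a y a⁻¹ y⁻¹ z` with `a ∈ A` and
`z ∈ C_V(A)`.
-/

set_option autoImplicit false

namespace Cfsg.Agent.H278.ThompsonSurj

open Subgroup

variable {G : Type*} [Group G]

theorem card_mul_relIndex [Finite G] {H K : Subgroup G} (h : H ≤ K) :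
    Nat.card H * H.relIndex K = Nat.card K := by
  rw [Subgroup.relIndex, ← Nat.card_congr (Subgroup.subgroupOfEquivOfLe h).toEquiv]
  exact Subgroup.card_mul_index _

theorem card_sup_mul [Finite G] {K H : Subgroup G} (h : H ≤ normalizer (K : Set G)) :
    Nat.card (K ⊔ H : Subgroup G) * Nat.card (K ⊓ H : Subgroup G) = Nat.card K * Nat.card H := by
  have hKn : (K.subgroupOf (K ⊔ H)).Normal :=
    normal_subgroupOf_of_le_normalizer (sup_le le_normalizer h)
  have h1 := relIndex_sup_left (H.subgroupOf (K ⊔ H)) (K.subgroupOf (K ⊔ H))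
  rw [← Subgroup.subgroupOf_sup le_sup_left le_sup_right, Subgroup.subgroupOf_self,
    Subgroup.relIndex_subgroupOf le_sup_right, relIndex_top_right] at h1
  have h2 : Nat.card K * K.relIndex H = Nat.card (K ⊔ H : Subgroup G) := by
    rw [← h1]
    exact card_mul_relIndex le_sup_left
  have h3 : Nat.card (K ⊓ H : Subgroup G) * K.relIndex H = Nat.card H := by
    rw [← Subgroup.inf_relIndex_right K H]
    exact card_mul_relIndex inf_le_right
  calc _ = Nat.card (K ⊔ H : Subgroup G) * Nat.card (K ⊓ H : Subgroup G) := rfl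
    _ = Nat.card K * (Nat.card (K ⊓ H : Subgroup G) * K.relIndex H) := by rw [← h2]; ring
    _ = _ := by rw [h3]

theorem comm_sup {X Y : Subgroup G} (hX : ∀ x ∈ X, ∀ y ∈ X, x * y = y * x)
    (hY : ∀ x ∈ Y, ∀ y ∈ Y, x * y = y * x) (hXY : ∀ x ∈ X, ∀ y ∈ Y, x * y = y * x) :
    ∀ x ∈ X ⊔ Y, ∀ y ∈ X ⊔ Y, x * y = y * x := by
  have h1 : X ⊔ Y ≤ centralizer ((X ⊔ Y : Subgroup G) : Set G) := by
    have hX1 : X ⊔ Y ≤ centralizer (X : Set G) := by
      refine sup_le ?_ ?_
      · intro x hx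
        rw [mem_centralizer_iff]
        exact fun y hy => hX y hy x hx
      · intro y hy
        rw [mem_centralizer_iff]
        exact fun x hx => hXY x hx y hy
    have hY1 : X ⊔ Y ≤ centralizer (Y : Set G) := by
      refine sup_le ?_ ?_
      · intro x hx
        rw [mem_centralizer_iff]
        exact fun y hy => (hXY x hx y hy).symm
      · intro x hx
        rw [mem_centralizer_iff]
        exact fun y hy => hY y hy x hx
    rw [le_centralizer_iff]
    refine sup_le ?_ ?_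
    · rw [le_centralizer_iff]; exact hX1
    · rw [le_centralizer_iff]; exact hY1
  intro x hx y hy
  exact (mem_centralizer_iff.mp (h1 hy)) x hx

theorem comm_closure {S : Set G} (hS : ∀ x ∈ S, ∀ y ∈ S, x * y = y * x) :
    ∀ x ∈ closure S, ∀ y ∈ closure S, x * y = y * x := by
  have h1 : closure S ≤ centralizer ((closure S : Subgroup G) : Set G) := by
    rw [Subgroup.centralizer_closure S]
    refine (closure_le _).mpr ?_
    intro x hx
    rw [SetLike.mem_coe, mem_centralizer_iff]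
    exact fun y hy => hS y hy x hx
  intro x hx y hy
  exact (mem_centralizer_iff.mp (h1 hy)) x hx

theorem exists_eq [Finite G] {A Q : Subgroup G} (hAc : ∀ a ∈ A, ∀ b ∈ A, a * b = b * a)
    (hmax : ∀ D : Subgroup G, D ≤ Q ⊔ A → (∀ x ∈ D, ∀ y ∈ D, x * y = y * x) →
      Nat.card D ≤ Nat.card A)
    {y : G} {V : Subgroup G} (hV : V = closure {x | ∃ a ∈ A, x = a * y * a⁻¹ * y⁻¹})
    (hVQ : V ≤ Q) (hVc : ∀ x ∈ V, ∀ y ∈ V, x * y = y * x) :
    ∀ v ∈ V, ∃ a ∈ A, ∃ z ∈ V, (∀ b ∈ A, b * z = z * b) ∧ v = (a * y * a⁻¹ * y⁻¹) * z := by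
  have hδ : ∀ a ∈ A, a * y * a⁻¹ * y⁻¹ ∈ V := by
    intro a ha
    rw [hV]; exact subset_closure ⟨a, ha, rfl⟩
  -- `A` normalizes `V`
  have hconj : ∀ b ∈ A, ∀ v ∈ V, b * v * b⁻¹ ∈ V := by
    intro b hb
    have h1 : V ≤ V.map (MulAut.conj b⁻¹).toMonoidHom := by
      conv_lhs => rw [hV]
      rw [closure_le]
      rintro _ ⟨a, ha, rfl⟩
      refine ⟨b * (a * y * a⁻¹ * y⁻¹) * b⁻¹, ?_, by
        simp only [MulEquiv.toMonoidHom_eq_coe, MonoidHom.coe_coe, MulAut.conj_apply]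
        group⟩
      have e : b * (a * y * a⁻¹ * y⁻¹) * b⁻¹ =
        ((b * a) * y * (b * a)⁻¹ * y⁻¹) * (b * y * b⁻¹ * y⁻¹)⁻¹ := by group
      rw [SetLike.mem_coe, e]
      exact mul_mem (hδ _ (mul_mem hb ha)) (inv_mem (hδ b hb))
    intro v hv
    obtain ⟨w, hw, hwv⟩ := h1 hv
    have : b * v * b⁻¹ = w := by
      rw [← hwv]
      simp only [MulEquiv.toMonoidHom_eq_coe, MonoidHom.coe_coe, MulAut.conj_apply]
      group
    rw [this]; exact hw
  let C : Subgroup G := A ⊓ centralizer (V : Set G)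
  have hCdef : C = A ⊓ centralizer (V : Set G) := rfl
  -- `V C` is abelian
  have hVC : Nat.card V * Nat.card C ≤ Nat.card A * Nat.card (V ⊓ A : Subgroup G) := by
    have h1 : Nat.card (V ⊔ C : Subgroup G) ≤ Nat.card A := by
      refine hmax _ (sup_le (hVQ.trans le_sup_left) (inf_le_left.trans le_sup_right)) ?_
      refine comm_sup hVc (fun x hx y hy => hAc x hx.1 y hy.1) ?_
      intro x hx y hy
      exact (mem_centralizer_iff.mp hy.2) x hx
    have h2 : C ≤ normalizer (V : Set G) := inf_le_right.trans (centralizer_le_normalizer _)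
    have h3 : V ⊓ C = V ⊓ A := by
      apply le_antisymm (inf_le_inf_left _ inf_le_left)
      rintro x ⟨hx1, hx2⟩
      exact ⟨hx1, hx2, mem_centralizer_iff.mpr fun y hy => hVc y hy x hx1⟩
    rw [← card_sup_mul h2, h3]
    exact Nat.mul_le_mul_right _ h1
  -- the elements of `V` commuting with `A` lie in `A`
  have hZ : ∀ z ∈ V, (∀ b ∈ A, b * z = z * b) → z ∈ A := by
    intro z hz hzA
    have h1 : Nat.card (A ⊔ zpowers z : Subgroup G) ≤ Nat.card A := by
      refine hmax _ (sup_le le_sup_right ((zpowers_le.mpr (hVQ hz)).trans le_sup_left)) ?_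
      refine comm_sup hAc ?_ ?_
      · rintro _ ⟨i, rfl⟩ _ ⟨j, rfl⟩
        exact (Commute.refl z).zpow_zpow i j
      · rintro x hx _ ⟨i, rfl⟩
        have : Commute x z := hzA x hx
        exact this.zpow_right i
    have h2 : A = A ⊔ zpowers z := Subgroup.eq_of_le_of_card_ge le_sup_left h1
    rw [h2]
    exact (le_sup_right : zpowers z ≤ A ⊔ zpowers z) (mem_zpowers z)
  -- injectivity
  have hinj : ∀ a ∈ A, ∀ b ∈ A, (b * y * b⁻¹ * y⁻¹)⁻¹ * (a * y * a⁻¹ * y⁻¹) ∈ A → b⁻¹ * a ∈ C := by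
    intro a ha b hb h
    obtain ⟨z, hz⟩ : ∃ z, z = (b * y * b⁻¹ * y⁻¹)⁻¹ * (a * y * a⁻¹ * y⁻¹) := ⟨_, rfl⟩
    have hzV : z ∈ V := by rw [hz]; exact mul_mem (inv_mem (hδ b hb)) (hδ a ha)
    have hzA : z ∈ A := by rw [hz]; exact h
    have h1 : z = (a * y * a⁻¹ * y⁻¹) * (b * y * b⁻¹ * y⁻¹)⁻¹ := by
      rw [hz]; exact hVc _ (inv_mem (hδ b hb)) _ (hδ a ha)
    -- `g = b⁻¹ a` satisfies `g y g⁻¹ = z y`
    have hg : b⁻¹ * a * y * (b⁻¹ * a)⁻¹ = z * y := by
      have h2 : b⁻¹ * z * b = z := by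
        have := hAc (b⁻¹ * z) (mul_mem (inv_mem hb) hzA) b hb
        rw [this]; group
      have h3 : b⁻¹ * a * y * (b⁻¹ * a)⁻¹ = (b⁻¹ * z * b) * y := by
        rw [h1]; group
      rw [h3, h2]
    have hgA : b⁻¹ * a ∈ A := mul_mem (inv_mem hb) ha
    obtain ⟨g, hgdef⟩ : ∃ g, g = b⁻¹ * a := ⟨_, rfl⟩
    rw [← hgdef] at hg hgA ⊢
    have h4 : V ≤ centralizer ({g} : Set G) := by
      rw [hV, closure_le]
      rintro _ ⟨c, hc, rfl⟩
      rw [SetLike.mem_coe, mem_centralizer_iff]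
      intro g' hg'
      rw [Set.mem_singleton_iff] at hg'
      rw [hg']
      have h5 : g * (c * y * c⁻¹ * y⁻¹) * g⁻¹ = c * y * c⁻¹ * y⁻¹ := by
        have hgc : g * c = c * g := hAc g hgA c hc
        have hzc : z * c = c * z := hAc z hzA c hc
        have h6 : g * (c * y * c⁻¹ * y⁻¹) * g⁻¹ =
            c * (g * y * g⁻¹) * c⁻¹ * (g * y * g⁻¹)⁻¹ := by
          have e1 : g * (c * y * c⁻¹ * y⁻¹) * g⁻¹ = (g * c) * y * (g * c)⁻¹ * (g * y * g⁻¹)⁻¹ := by
            group
          rw [e1, hgc]; group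
        rw [h6, hg]
        have h7 : c * (z * y) * c⁻¹ * (z * y)⁻¹ = z * (c * y * c⁻¹ * y⁻¹) * z⁻¹ := by
          have : c * (z * y) = z * (c * y) := by rw [← mul_assoc, ← hzc, mul_assoc]
          rw [this]; group
        rw [h7, hVc z hzV _ (hδ c hc)]
        group
      rw [← mul_inv_eq_iff_eq_mul]
      exact h5
    refine ⟨hgA, mem_centralizer_iff.mpr fun v hv => ?_⟩
    exact ((mem_centralizer_iff.mp (h4 hv)) g rfl).symm
  -- counting
  let C' : Subgroup A := C.subgroupOf A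
  let Z' : Subgroup V := A.subgroupOf V
  let f : A ⧸ C' → V ⧸ Z' := fun x =>
    (QuotientGroup.mk (⟨(x.out : G) * y * (x.out : G)⁻¹ * y⁻¹, hδ _ x.out.2⟩ : V) : V ⧸ Z')
  have hf : Function.Injective f := by
    intro x x' hxx
    have h1 := QuotientGroup.eq.mp hxx.symm
    have h2 := hinj (x.out : G) x.out.2 (x'.out : G) x'.out.2 h1
    have h3 : (x'.out)⁻¹ * x.out ∈ C' := h2
    have h4 := QuotientGroup.eq.mpr h3
    rw [QuotientGroup.out_eq', QuotientGroup.out_eq'] at h4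
    exact h4.symm
  have hcard : Nat.card (V ⧸ Z') ≤ Nat.card (A ⧸ C') := by
    have h1 := Subgroup.card_eq_card_quotient_mul_card_subgroup Z'
    have h2 := Subgroup.card_eq_card_quotient_mul_card_subgroup C'
    have h3 : Nat.card C' = Nat.card C :=
      Nat.card_congr (Subgroup.subgroupOfEquivOfLe (inf_le_left : C ≤ A)).toEquiv
    have h4 : Nat.card Z' = Nat.card (V ⊓ A : Subgroup G) := by
      have e : Z' = (V ⊓ A).subgroupOf V := by
        ext x
        simp [Z', Subgroup.mem_subgroupOf]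
      rw [e]
      exact Nat.card_congr (Subgroup.subgroupOfEquivOfLe (inf_le_left : V ⊓ A ≤ V)).toEquiv
    rw [h3] at h2
    rw [h4] at h1
    rw [h1, h2] at hVC
    have h5 : 0 < Nat.card C := Nat.card_pos
    have h6 : 0 < Nat.card (V ⊓ A : Subgroup G) := Nat.card_pos
    have h7 : Nat.card (V ⧸ Z') * (Nat.card (V ⊓ A : Subgroup G) * Nat.card C) ≤
        Nat.card (A ⧸ C') * (Nat.card (V ⊓ A : Subgroup G) * Nat.card C) := by
      calc _ = Nat.card (V ⧸ Z') * Nat.card (V ⊓ A : Subgroup G) * Nat.card C := by ring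
        _ ≤ _ := hVC
        _ = _ := by ring
    exact Nat.le_of_mul_le_mul_right h7 (Nat.mul_pos h6 h5)
  have hbij : Function.Bijective f := hf.bijective_of_nat_card_le hcard
  intro v hv
  obtain ⟨x, hx⟩ := hbij.2 (QuotientGroup.mk (⟨v, hv⟩ : V))
  have h1 := QuotientGroup.eq.mp hx
  have h2 : ((x.out : G) * y * (x.out : G)⁻¹ * y⁻¹)⁻¹ * v ∈ A := h1
  refine ⟨x.out, x.out.2, ((x.out : G) * y * (x.out : G)⁻¹ * y⁻¹)⁻¹ * v,
    mul_mem (inv_mem (hδ _ x.out.2)) hv, ?_, by group⟩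
  intro b hb
  exact hAc b hb _ h2

end Cfsg.Agent.H278.ThompsonSurj
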