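import Cfsg.Agent.H396.Der
import Cfsg.Prelude.Def_Spor_Mathieu
set_option linter.all false

/-!
# TEAM ELUSIVE: common interface

`T` is a finite (non-abelian simple) group, `R` a proper subgroup.

* `H396.Der T R`   : some element of prime order has no `Aut T`-image in `R` (landed, helper396)
* `DerT T R`       : some element of prime order has no `T`-conjugate in `R`
* `DerPP T R`      : some element of prime power order has no `T`-conjugate in `R`

`Der T R → DerT T R → DerPP T R`.

* `ClT T` : for every `R ≠ ⊤`, `DerT T R`, unless `T ≅ M11` and `R` is simple of order `660`.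
* `ClMax T` : for every maximal `M`, `DerT T M`.
* `ClMaxA T` : for every maximal `M`, `Der T M`.

`ClMaxA T → ClMax T → ClT T`.
-/

set_option autoImplicit false

namespace Cfsg.Agent.H278.El

open Cfsg.Agent.H396

/-- some element of prime order of `T` has no `T`-conjugate in `R` -/
def DerT (T : Type*) [Group T] (R : Subgroup T) : Prop :=
  ∃ x : T, (orderOf x).Prime ∧ ∀ g : T, g * x * g⁻¹ ∉ R

/-- some element of prime power order of `T` has no `T`-conjugate in `R` -/
def DerPP (T : Type*) [Group T] (R : Subgroup T) : Prop :=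
  ∃ x : T, (∃ p k : ℕ, p.Prime ∧ orderOf x = p ^ k) ∧ ∀ g : T, g * x * g⁻¹ ∉ R

/-- the exceptional pair `M11 > L2(11)`. -/
def M11Pair (T : Type*) [Group T] (R : Subgroup T) : Prop :=
  Cfsg.Spor.IsoM11 T ∧ Nat.card R = 660 ∧ IsSimpleGroup R

/-- the core statement for one group `T`. -/
def ClT (T : Type*) [Group T] : Prop :=
  ∀ R : Subgroup T, R ≠ ⊤ → DerT T R ∨ M11Pair T R

/-- every maximal subgroup misses a `T`-class of elements of prime order. -/
def ClMax (T : Type*) [Group T] : Prop :=
  ∀ M : Subgroup T, IsCoatom M → DerT T M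

/-- every maximal subgroup misses an `Aut T`-class of elements of prime order. -/
def ClMaxA (T : Type*) [Group T] : Prop :=
  ∀ M : Subgroup T, IsCoatom M → Der T M

theorem Der.derT {T : Type*} [Group T] {R : Subgroup T} (h : Der T R) : DerT T R := by
  obtain ⟨x, hx, hφ⟩ := h
  refine ⟨x, hx, fun g hg => hφ (MulAut.conj g) ?_⟩
  simpa using hg

theorem DerT.derPP {T : Type*} [Group T] {R : Subgroup T} (h : DerT T R) : DerPP T R := by
  obtain ⟨x, hx, hφ⟩ := h
  exact ⟨x, ⟨_, 1, hx, (pow_one _).symm⟩, hφ⟩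

theorem DerT.mono {T : Type*} [Group T] {H K : Subgroup T} (h : DerT T K) (hHK : H ≤ K) :
    DerT T H := by
  obtain ⟨g, hg, hφ⟩ := h
  exact ⟨g, hg, fun φ hm => hφ φ (hHK hm)⟩

theorem DerPP.mono {T : Type*} [Group T] {H K : Subgroup T} (h : DerPP T K) (hHK : H ≤ K) :
    DerPP T H := by
  obtain ⟨g, hg, hφ⟩ := h
  exact ⟨g, hg, fun φ hm => hφ φ (hHK hm)⟩

theorem DerT.comap {T S : Type*} [Group T] [Group S] {K : Subgroup S} (e : T ≃* S)
    (h : DerT S K) : DerT T (K.comap e.toMonoidHom) := by
  obtain ⟨g, hg, hφ⟩ := h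
  refine ⟨e.symm g, ?_, fun x hm => ?_⟩
  · rw [show orderOf (e.symm g) = orderOf g from
      orderOf_injective e.symm.toMonoidHom e.symm.injective g]
    exact hg
  · refine hφ (e x) ?_
    simpa using hm

theorem DerPP.comap {T S : Type*} [Group T] [Group S] {K : Subgroup S} (e : T ≃* S)
    (h : DerPP S K) : DerPP T (K.comap e.toMonoidHom) := by
  obtain ⟨g, ⟨p, k, hp, hk⟩, hφ⟩ := h
  refine ⟨e.symm g, ⟨p, k, hp, ?_⟩, fun x hm => ?_⟩
  · rw [show orderOf (e.symm g) = orderOf g from
      orderOf_injective e.symm.toMonoidHom e.symm.injective g]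
    exact hk
  · refine hφ (e x) ?_
    simpa using hm

theorem DerT.congr {T S : Type*} [Group T] [Group S] {K : Subgroup S} (e : T ≃* S)
    (h : DerT T (K.comap e.toMonoidHom)) : DerT S K := by
  have h2 := h.comap e.symm
  have h3 : (K.comap e.toMonoidHom).comap e.symm.toMonoidHom = K := by
    ext x; simp
  rwa [h3] at h2

theorem isCoatom_comap {T S : Type*} [Group T] [Group S] (e : T ≃* S) {M : Subgroup S}
    (hM : IsCoatom M) : IsCoatom (M.comap e.toMonoidHom) := by
  refine ⟨fun ht => hM.1 ?_, fun K hK => ?_⟩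
  · rw [eq_top_iff]
    intro x _
    have : e.symm x ∈ M.comap e.toMonoidHom := by rw [ht]; trivial
    simpa using this
  · have h1 : M < K.map e.toMonoidHom := by
      refine lt_of_le_of_ne ?_ ?_
      · intro x hx
        refine ⟨e.symm x, hK.le ?_, by simp⟩
        simpa using hx
      · intro heq
        refine hK.not_ge fun x hx => ?_
        change e x ∈ M
        rw [heq]
        exact ⟨x, hx, rfl⟩
    have h2 := hM.2 _ h1
    rw [eq_top_iff]
    intro x _
    have : e x ∈ K.map e.toMonoidHom := by rw [h2]; trivial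
    obtain ⟨y, hy, hyx⟩ := this
    have : y = x := e.injective hyx
    rwa [← this]

/-- every prime divisor of `|T|` divides `|R|` if `R` meets all classes of prime order. -/
theorem dvd_of_not_derT {T : Type*} [Group T] [Finite T] {R : Subgroup T} (h : ¬ DerT T R)
    {p : ℕ} (hp : p.Prime) (hd : p ∣ Nat.card T) : p ∣ Nat.card R := by
  by_contra hn
  exact h (Der.derT (der_of_prime hp hd hn))

theorem exists_conj_of_not_derT {T : Type*} [Group T] {R : Subgroup T} (h : ¬ DerT T R)
    (x : T) (hx : (orderOf x).Prime) : ∃ g : T, g * x * g⁻¹ ∈ R := by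
  by_contra hn
  push Not at hn
  exact h ⟨x, hx, hn⟩

theorem ClMaxA.clMax {T : Type*} [Group T] (h : ClMaxA T) : ClMax T :=
  fun M hM => Der.derT (h M hM)

theorem ClMax.derT {T : Type*} [Group T] [Finite T] (h : ClMax T) (R : Subgroup T)
    (hR : R ≠ ⊤) : DerT T R := by
  obtain ⟨K, hK, hRK⟩ := (eq_top_or_exists_le_coatom R).resolve_left hR
  exact (h K hK).mono hRK

theorem ClMaxA.der {T : Type*} [Group T] [Finite T] (h : ClMaxA T) (R : Subgroup T)
    (hR : R ≠ ⊤) : Der T R := by
  obtain ⟨K, hK, hRK⟩ := (eq_top_or_exists_le_coatom R).resolve_left hR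
  exact (h K hK).mono hRK

theorem ClMax.clT {T : Type*} [Group T] [Finite T] (h : ClMax T) : ClT T :=
  fun R hR => Or.inl (h.derT R hR)

theorem ClMax.congr {T S : Type*} [Group T] [Group S] (e : T ≃* S) (h : ClMax T) : ClMax S :=
  fun _ hM => (h _ (isCoatom_comap e hM)).congr e

theorem ClMaxA.congr {T S : Type*} [Group T] [Group S] (e : T ≃* S) (h : ClMaxA T) :
    ClMaxA S :=
  fun _ hM => Cfsg.Agent.H396.Der.congr e (h _ (isCoatom_comap e hM))

theorem ClT.congr {T S : Type*} [Group T] [Group S] (e : T ≃* S) (h : ClT T) : ClT S := by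
  intro R hR
  have hR' : R.comap e.toMonoidHom ≠ ⊤ := by
    intro ht
    apply hR
    rw [eq_top_iff]
    intro x _
    have : e.symm x ∈ R.comap e.toMonoidHom := by rw [ht]; trivial
    simpa using this
  rcases h _ hR' with h1 | ⟨⟨h1⟩, h2, h3⟩
  · exact Or.inl (h1.congr e)
  · have f : R.comap e.toMonoidHom ≃* R := MulEquiv.ofBijective (e.toMonoidHom.subgroupComap R)
      ⟨fun a b h => Subtype.ext (e.injective (congrArg Subtype.val h)),
        MonoidHom.subgroupComap_surjective_of_surjective _ _ e.surjective⟩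
    refine Or.inr ⟨⟨e.symm.trans h1⟩, by rw [← h2]; exact (Nat.card_congr f.toEquiv).symm, ?_⟩
    exact f.symm.isSimpleGroup

end Cfsg.Agent.H278.El
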