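import Cfsg.Agent.H278.ElCore
import Cfsg.Agent.H190.Exc.RowE6_m3
import Cfsg.Agent.S4008
import Cfsg.Agent.H566.Main
import Cfsg.Agent.Prune
set_option linter.all false
prune_inst 0x7f00000000000000000000000000000000000000000000000000000000000000000000000000000000000000000000000000000000000000000000000000000000000000000000000000000000000000003fffffffffffffffffffffffffffbeffbdffffffff

/-!
# TEAM ELUSIVE: the rows of the exceptional groups
-/

set_option autoImplicit false

namespace Cfsg.Agent.H278.El.Asm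

open Cfsg Cfsg.Agent.OrdDiv Cfsg.Agent.H436 Cfsg.Agent.H290.ElEng Cfsg.Agent.H290.ElRich
open Cfsg.Agent.H264.FKS (Full full_of_not_derT)

theorem clT_of_full {T : Type} [Group T] [Finite T] (h : ∀ R : Subgroup T, Full T R → R = ⊤) : ClT T := by
  intro R hR
  left
  by_contra hn
  exact hR (h R (full_of_not_derT hn))

theorem richFix (hK : Kn) : RichFix.{0} :=
  fun _ _ _ _ _ h1 h2 h3 => (H566.rich_sub (fun X _ _ _ => hK X) h1 h2 h3).1

theorem asThm : ASThm.{0} :=
  fun _ _ _ h1 h2 r h3 h4 h5 h6 R _ h7 h8 => S4008.result h1 h2 r h3 h4 h5 h6 R h7 h8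

theorem clT_e8 (tab : OrderTable.{0}) (hK : Kn) {q : ℕ} {T : Type} [Group T] [Finite T]
    (h : IsNamed (.e8 q) T) : ClT T := by
  obtain ⟨p, f, hp, hf, rfl⟩ := (isPrimePow_nat_iff _).1 h.cond
  exact clT_of_full fun R hR => H290.ElE8.full_E8 asThm (richFix hK)
    (fun S _ _ _ hna => named_of_simple tab hK hna) hp hf h hR

theorem clT_e7 (tab : OrderTable.{0}) (hK : Kn) {q : ℕ} {T : Type} [Group T] [Finite T]
    (h : IsNamed (.e7 q) T) : ClT T := by
  obtain ⟨p, f, hp, hf, rfl⟩ := (isPrimePow_nat_iff _).1 h.cond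
  exact clT_of_full fun R hR => H290.ElE7.full_E7 asThm (richFix hK)
    (fun S _ _ _ hna => named_of_simple tab hK hna) hp hf h hR

theorem clT_e6 (tab : OrderTable.{0}) (hK : Kn) {q : ℕ} {T : Type} [Group T] [Finite T]
    (h : IsNamed (.e6 q) T) : ClT T := by
  obtain ⟨F, _, _, hF, ⟨e⟩⟩ := h.real
  have hfin : Finite (Lie.chevE6.group F) := Finite.of_equiv T e.toEquiv
  exact (clT_of_full fun R hR => H190.Exc.full_e6 tab hK asThm (richFix hK) hR).congr e.symm

theorem clT_te6 (tab : OrderTable.{0}) (hK : Kn) {q : ℕ} {T : Type} [Group T] [Finite T]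
    (h : IsNamed (.te6 q) T) : ClT T := by
  obtain ⟨F, _, _, hF, ⟨e⟩⟩ := h.real
  have hfin : Finite (Lie.twistedE6 F q) := Finite.of_equiv T e.toEquiv
  exact (clT_of_full fun R hR => H190.Exc.full_te6 tab hK asThm (richFix hK) h.cond hF hR).congr e.symm

end Cfsg.Agent.H278.El.Asm
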